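import Groth.Agent.AbLam7.Main
import Groth.Agent.FBase64.Geometric
import Groth.Prelude.Def_AgPol

/-!
# The Poincaré class along pairs of points

`ev ξ x a` is the pull back of a class on `A ×_S At` along the point `(x, a)`.
-/

set_option autoImplicit false
set_option maxSynthPendingDepth 6
set_option linter.style.haveILetI false
set_option backward.isDefEq.respectTransparency.types false

noncomputable section

universe u

open CategoryTheory CategoryTheory.Limits MonoidalCategory CartesianMonoidalCategory MonObj GrpObj AlgebraicGeometry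
open Groth.Agent.FGA29 Groth.Agent.H98PicRel

namespace Groth.Agent.AgPol96

theorem pb_mul {X Y : Scheme.{u}} (g : X ⟶ Y) (a b : PicF.Cl Y) :
    PicF.pullCl g (a * b) = PicF.pullCl g a * PicF.pullCl g b :=
  map_mul (FGA29.pullClHom g) a b

/-- A product of connected schemes of finite type over an algebraically closed field is connected. -/
theorem connectedSpace_pullback {k : Type u} [Field k] [IsAlgClosed k] {T T' : Scheme.{u}}
    (q : T ⟶ Spec (CommRingCat.of k)) (q' : T' ⟶ Spec (CommRingCat.of k)) [ConnectedSpace T] [ConnectedSpace T'] :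
    ConnectedSpace ↥(pullback q q') := by
  haveI : IsIso (Spec.map (CommRingCat.ofHom (RingHom.id k))) := by
    rw [CommRingCat.ofHom_id, Spec.map_id]; infer_instance
  haveI : ConnectedSpace ↥(pullback q (Spec.map (CommRingCat.ofHom (RingHom.id k)))) :=
    (asIso (pullback.fst q (Spec.map (CommRingCat.ofHom (RingHom.id k))))).hom.homeomorph.connectedSpace_iff.2 ‹_›
  haveI := FBase64.geometricallyConnected_of_sepClosed (f := q) (RingHom.id k)
  exact GeometricallyConnected.connectedSpace (pullback.snd q q') (pullback.snd q q').isOpenMap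

/-- Modules algebraically equivalent to zero are stable under tensor products. -/
theorem isAlgEquivZero_tensor {k : Type u} [Field k] [IsAlgClosed k] {X : Scheme.{u}}
    (p : X ⟶ Spec (CommRingCat.of k)) {L L' : X.Modules} (hL : @Pic13.IsAlgEquivZero k _ X ⟨p⟩ L)
    (hL' : @Pic13.IsAlgEquivZero k _ X ⟨p⟩ L') :
    @Pic13.IsAlgEquivZero k _ X ⟨p⟩ (CohB1.tensorMod L L') := by
  letI : X.Over (Spec (CommRingCat.of k)) := ⟨p⟩
  obtain ⟨T, q, hc, hlft, hqc, M, hM, t, t₀, ht, ht₀, ⟨et⟩, ⟨et₀⟩⟩ := hL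
  obtain ⟨T', q', hc', hlft', hqc', M', hM', t', t₀', ht', ht₀', ⟨et'⟩, ⟨et₀'⟩⟩ := hL'
  let r : pullback q q' ⟶ Spec (CommRingCat.of k) := pullback.fst q q' ≫ q
  let h₁ : Pic13.prodK k X r ⟶ Pic13.prodK k X q :=
    pullback.map _ r _ q (𝟙 X) (pullback.fst q q') (𝟙 _) (by simp) (by simp [r])
  let h₂ : Pic13.prodK k X r ⟶ Pic13.prodK k X q' :=
    pullback.map _ r _ q' (𝟙 X) (pullback.snd q q') (𝟙 _) (by simp) (by simp [r, pullback.condition])
  let N := CohB1.tensorMod ((Scheme.Modules.pullback h₁).obj M) ((Scheme.Modules.pullback h₂).obj M')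
  have hN : PicF.IsInvertible N :=
    EGA73.isInvertible_tensorMod (Amp73.isInvertible_pullback _ hM) (Amp73.isInvertible_pullback _ hM')
  have hsl : ∀ (a : Spec (CommRingCat.of k) ⟶ T) (ha : a ≫ q = 𝟙 _) (b : Spec (CommRingCat.of k) ⟶ T')
      (hb : b ≫ q' = 𝟙 _) (h : pullback.lift a b (ha.trans hb.symm) ≫ r = 𝟙 _),
      PicF.pullCl (Pic13.sliceAt k X r (pullback.lift a b (ha.trans hb.symm)) h) (PicF.cl N) =
        PicF.pullCl (Pic13.sliceAt k X q a ha) (PicF.cl M) * PicF.pullCl (Pic13.sliceAt k X q' b hb) (PicF.cl M') := by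
    intro a ha b hb h
    show PicF.pullCl _ (PicF.pullCl h₁ (PicF.cl M) * PicF.pullCl h₂ (PicF.cl M')) = _
    rw [pb_mul, AbLam7.pullCl_comp', AbLam7.pullCl_comp']
    refine congr_arg₂ (· * ·) (SymPhi99.pullCl_congr (pullback.hom_ext ?_ ?_) _)
      (SymPhi99.pullCl_congr (pullback.hom_ext ?_ ?_) _)
    · refine (Category.assoc _ _ _).trans ((congrArg (_ ≫ ·) ((pullback.lift_fst _ _ _).trans
        (Category.comp_id _))).trans ?_)
      exact (pullback.lift_fst _ _ _).trans (pullback.lift_fst _ _ _).symm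
    · refine (Category.assoc _ _ _).trans ((congrArg (_ ≫ ·) (pullback.lift_snd _ _ _)).trans ?_)
      refine (pullback.lift_snd_assoc _ _ _ _).trans (Eq.trans ?_ (pullback.lift_snd _ _ _).symm)
      exact (Category.assoc _ _ _).trans (congrArg (_ ≫ ·) (pullback.lift_fst _ _ _))
    · refine (Category.assoc _ _ _).trans ((congrArg (_ ≫ ·) ((pullback.lift_fst _ _ _).trans
        (Category.comp_id _))).trans ?_)
      exact (pullback.lift_fst _ _ _).trans (pullback.lift_fst _ _ _).symm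
    · refine (Category.assoc _ _ _).trans ((congrArg (_ ≫ ·) (pullback.lift_snd _ _ _)).trans ?_)
      refine (pullback.lift_snd_assoc _ _ _ _).trans (Eq.trans ?_ (pullback.lift_snd _ _ _).symm)
      exact (Category.assoc _ _ _).trans (congrArg (_ ≫ ·) (pullback.lift_snd _ _ _))
  have hw : ∀ (a : Spec (CommRingCat.of k) ⟶ T) (ha : a ≫ q = 𝟙 _) (b : Spec (CommRingCat.of k) ⟶ T')
      (hb : b ≫ q' = 𝟙 _), pullback.lift a b (ha.trans hb.symm) ≫ r = 𝟙 _ := fun a ha b hb =>
    (pullback.lift_fst_assoc _ _ _ _).trans ha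
  refine ⟨pullback q q', r, connectedSpace_pullback q q', inferInstance, inferInstance, N, hN,
    _, _, hw t ht t' ht', hw t₀ ht₀ t₀' ht₀', nonempty_iso_of_cl ?_, nonempty_iso_of_cl ?_⟩
  · show PicF.pullCl _ (PicF.cl N) = _
    rw [hsl t ht t' ht']
    exact congr_arg₂ (· * ·) (SymPhi99.cl_iso ⟨et⟩) (SymPhi99.cl_iso ⟨et'⟩)
  · show PicF.pullCl _ (PicF.cl N) = _
    rw [hsl t₀ ht₀ t₀' ht₀']
    exact (congr_arg₂ (· * ·) (SymPhi99.cl_iso ⟨et₀⟩) (SymPhi99.cl_iso ⟨et₀'⟩)).trans (_root_.mul_one _)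

/-- Classes algebraically equivalent to zero on geometric fibres form a submonoid. -/
theorem isPicZeroCl_mul {X S : Scheme.{u}} (f : X ⟶ S) {T : Over S} {a b : PicF.Cl (PicF.XT f T)}
    (ha : AbDual.IsPicZeroCl f T a) (hb : AbDual.IsPicZeroCl f T b) : AbDual.IsPicZeroCl f T (a * b) := by
  obtain ⟨L, rfl, hL, hzL⟩ := ha
  obtain ⟨M, rfl, hM, hzM⟩ := hb
  refine ⟨CohB1.tensorMod L M, rfl, EGA73.isInvertible_tensorMod hL hM, fun t Ω _ _ σ hσ => ?_⟩
  refine SymPhi99.isAlgEquivZero_pullback Ω (pullback.snd (PicF.XTproj f T) σ) _ (𝟙 _) (Category.id_comp _)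
    ⟨(Scheme.Modules.pullbackId _).app _ ≪≫ (TwTens96.pullTensIso _ L M).symm⟩
    (isAlgEquivZero_tensor _ (hzL t Ω σ hσ) (hzM t Ω σ hσ))

variable {S : Scheme.{u}} {A At : Over S}

/-- The pull back of a class along a pair of points. -/
def ev (ξ : PicF.Cl (PicF.XT A.hom At)) {W : Over S} (x : W ⟶ A) (a : W ⟶ At) : PicF.Cl W.left :=
  PicF.pullCl (lift x a).left (ξ : PicF.Cl (A ⊗ At).left)

variable (ξ : PicF.Cl (PicF.XT A.hom At))

theorem ev_pull {W W' : Over S} (g : W' ⟶ W) (x : W ⟶ A) (a : W ⟶ At) :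
    PicF.pullCl g.left (ev ξ x a) = ev ξ (g ≫ x) (g ≫ a) := by
  rw [ev, ev, AbLam7.pullCl_comp', ← Over.comp_left, comp_lift]

theorem lift_left_fst {W B C : Over S} (x : W ⟶ B) (a : W ⟶ C) :
    (lift x a).left ≫ pullback.fst B.hom C.hom = x.left := by
  show (lift x a).left ≫ (fst B C).left = _
  rw [← Over.comp_left, lift_fst]

theorem lift_left_snd {W B C : Over S} (x : W ⟶ B) (a : W ⟶ C) :
    (lift x a).left ≫ pullback.snd B.hom C.hom = a.left := by
  show (lift x a).left ≫ (snd B C).left = _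
  rw [← Over.comp_left, lift_snd]

/-- The classes of the points of the dual. -/
theorem ev_fst_snd {T : Over S} (g : T ⟶ At) :
    ev ξ (fst A T) (snd A T ≫ g) = PicF.pullCl (PicF.XTmap A.hom g) ξ := by
  refine SymPhi99.pullCl_congr (pullback.hom_ext ?_ ?_) _
  · rw [lift_left_fst, XTmap_fst]; rfl
  · rw [lift_left_snd, XTmap_snd, Over.comp_left]; rfl

theorem ev_eq_bcMap {W Z : Over S} (f : Z ⟶ A) (z : W ⟶ Z) (a : W ⟶ At) :
    ev ξ (z ≫ f) a = PicF.pullCl (lift z a).left (PicF.pullCl (AbDual.bcMap f At) ξ) := by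
  rw [ev, AbLam7.pullCl_comp']
  refine SymPhi99.pullCl_congr (pullback.hom_ext ?_ ?_) _
  · rw [lift_left_fst, Category.assoc, show AbDual.bcMap f At ≫ pullback.fst A.hom At.hom =
      pullback.fst Z.hom At.hom ≫ f.left from pullback.lift_fst _ _ _, ← Category.assoc, lift_left_fst,
      Over.comp_left]
  · rw [lift_left_snd, Category.assoc, show AbDual.bcMap f At ≫ pullback.snd A.hom At.hom =
      pullback.snd Z.hom At.hom ≫ 𝟙 _ from pullback.lift_snd _ _ _, Category.comp_id, lift_left_snd]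

variable [GrpObj A] [IsProper A.hom] [Smooth A.hom] [GeometricallyConnected A.hom] [GrpObj At]
  {φ : ∀ T : Over S, PicF.Cl (PicF.XT A.hom T) → (T ⟶ At)} {ξ}

omit [IsProper A.hom] [Smooth A.hom] [GeometricallyConnected A.hom] [GrpObj At] in
theorem secT_eq_lift (T : Over S) :
    PicF.secT A.hom η[A].left (Over.w η[A]) T = (lift (1 : T ⟶ A) (𝟙 T)).left := by
  refine pullback.hom_ext ?_ ?_
  · rw [lift_left_fst, Cube7.one_left]
    exact pullback.lift_fst _ _ _
  · rw [lift_left_snd]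
    exact pullback.lift_snd _ _ _

variable (hξ : AbDual.IsPoincareCl A At φ ξ)

include hξ

omit [IsProper A.hom] [Smooth A.hom] [GeometricallyConnected A.hom] in
theorem ev_one_left {W : Over S} (a : W ⟶ At) : ev ξ (1 : W ⟶ A) a = 1 := by
  have h : ev ξ (1 : At ⟶ A) (𝟙 At) = 1 := by
    rw [ev, ← secT_eq_lift]
    exact hξ.2.2
  have h' := congrArg (PicF.pullCl a.left) h
  rwa [ev_pull, MonObj.comp_one, Category.comp_id, SymPhi99.pullCl_one] at h'

/-- The class is additive in the points of the abelian scheme. -/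
theorem ev_mul_left {W : Over S} (x y : W ⟶ A) (a : W ⟶ At) :
    ev ξ (x * y) a = ev ξ x a * ev ξ y a := by
  have e : x * y = lift x y ≫ (fst A A * snd A A) := by rw [MonObj.comp_mul, lift_fst, lift_snd]
  rw [e, ev_eq_bcMap, AbDual95.pull_mul_rigid _ _ At hξ.1 hξ.2.2, pb_mul, ← ev_eq_bcMap, ← ev_eq_bcMap,
    lift_fst, lift_snd]

omit [IsProper A.hom] [Smooth A.hom] [GeometricallyConnected A.hom] in
theorem rig_point {T : Over S} (g : T ⟶ At) :
    PicF.pullCl (PicF.secT A.hom η[A].left (Over.w η[A]) T) (PicF.pullCl (PicF.XTmap A.hom g) ξ) = 1 := by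
  rw [← ev_fst_snd, secT_eq_lift, ev_pull, lift_fst, lift_snd_assoc, Category.id_comp, ev_one_left hξ]

omit [IsProper A.hom] [Smooth A.hom] [GeometricallyConnected A.hom] in
theorem isPicZeroCl_point {T : Over S} (g : T ⟶ At) :
    AbDual.IsPicZeroCl A.hom T (PicF.pullCl (PicF.XTmap A.hom g) ξ) :=
  SymPhi99.isPicZeroCl_pullCl A.hom g hξ.1

variable (hφ : AbDual.IsDualAV Scheme.fppfPrecoverage A At φ)

include hφ

omit [IsProper A.hom] [Smooth A.hom] [GeometricallyConnected A.hom] in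
theorem phi_point {T : Over S} (g : T ⟶ At) : φ T (PicF.pullCl (PicF.XTmap A.hom g) ξ) = g := by
  rw [hφ.relPic.natural _ _ g ξ hξ.1, hξ.2.1, Category.comp_id]

/-- The class is additive in the points of the dual. -/
theorem ev_mul_right {W : Over S} (x : W ⟶ A) (a b : W ⟶ At) :
    ev ξ x (a * b) = ev ξ x a * ev ξ x b := by
  have key : PicF.pullCl (PicF.XTmap A.hom (a * b)) ξ =
      PicF.pullCl (PicF.XTmap A.hom a) ξ * PicF.pullCl (PicF.XTmap A.hom b) ξ := by
    refine AbDual95.eq_of_phi_eq_rigid hφ (isPicZeroCl_point hξ _)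
      (isPicZeroCl_mul _ (isPicZeroCl_point hξ a) (isPicZeroCl_point hξ b)) (rig_point hξ _) ?_ ?_
    · rw [pb_mul, rig_point hξ, rig_point hξ, _root_.mul_one]
    · rw [phi_point hξ hφ, AbDual95.phi_mul hφ (isPicZeroCl_point hξ a) (isPicZeroCl_point hξ b),
        phi_point hξ hφ, phi_point hξ hφ]
  have h := congrArg (PicF.pullCl (lift x (𝟙 W)).left) key
  rw [pb_mul, ← ev_fst_snd, ← ev_fst_snd, ← ev_fst_snd] at h
  rw [ev_pull, ev_pull, ev_pull] at h
  simpa only [lift_fst, lift_snd_assoc, Category.id_comp] using h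

theorem ev_one_right {W : Over S} (x : W ⟶ A) : ev ξ x (1 : W ⟶ At) = 1 := by
  obtain ⟨d, -, hd⟩ := AbDual95.exists_inv_cl (c := ev ξ x (1 : W ⟶ At))
    (isInvertibleCl_pullCl _ (SymPhi99.isInvertibleCl_of_picZero _ hξ.1))
  have h := ev_mul_right hξ hφ x (1 : W ⟶ At) 1
  rw [_root_.mul_one] at h
  calc ev ξ x (1 : W ⟶ At) = ev ξ x 1 * (ev ξ x 1 * d) := by rw [hd, _root_.mul_one]
    _ = 1 := by rw [← _root_.mul_assoc, ← h, hd]

end Groth.Agent.AgPol96
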