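import Groth.Agent.AgPol96.Poinc
import Groth.Agent.AbDeg57.FlatPow
import Groth.Agent.AbTI73.Basic

/-!
# Symmetry of polarisations along the Poincaré class
-/

set_option autoImplicit false
set_option maxSynthPendingDepth 6
set_option linter.style.haveILetI false
set_option linter.unusedSectionVars false
set_option backward.isDefEq.respectTransparency.types false
set_option maxHeartbeats 1000000

noncomputable section

universe u

open CategoryTheory CategoryTheory.Limits MonoidalCategory CartesianMonoidalCategory MonObj GrpObj AlgebraicGeometry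
open Groth.Agent.FGA29 Groth.Agent.H98PicRel

namespace Groth.Agent.AgPol96

theorem cancel_two {M : Type*} [CommMonoid M] {n n' a b a' b' c : M} (ha : a * a' = 1) (hb : b * b' = 1)
    (h : n * a * b = c) (h' : n' * a * b = c) : n = n' := by
  have e : ∀ m : M, m = m * a * b * (b' * a') := fun m => by
    rw [← _root_.mul_assoc, _root_.mul_assoc (m * a) b, hb, _root_.mul_one, _root_.mul_assoc, ha, _root_.mul_one]
  rw [e n, e n', h, h']

theorem pb_inv {X Y : Scheme.{u}} (g : X ⟶ Y) {a b : PicF.Cl Y} (h : a * b = 1) :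
    PicF.pullCl g a * PicF.pullCl g b = 1 := by
  rw [← pb_mul, h, SymPhi99.pullCl_one]

/-- Classes algebraically equivalent to zero on geometric fibres pass to squares over the parameter. -/
theorem isPicZeroCl_square {X S X' S' : Scheme.{u}} {f : X ⟶ S} {f' : X' ⟶ S'} {T : Over S} {T' : Over S'}
    (h : PicF.XT f' T' ⟶ PicF.XT f T) (g : T'.left ⟶ T.left)
    (hc : h ≫ PicF.XTproj f T = PicF.XTproj f' T' ≫ g) {c : PicF.Cl (PicF.XT f T)}
    (hz : AbDual.IsPicZeroCl f T c) : AbDual.IsPicZeroCl f' T' (PicF.pullCl h c) := by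
  obtain ⟨L, rfl, hL, hz⟩ := hz
  refine ⟨_, rfl, Amp73.isInvertible_pullback _ hL, fun t Ω _ _ σ hσ => ?_⟩
  have hr : Set.range (σ ≫ g).base = {g t} := by
    rw [Scheme.Hom.comp_base, TopCat.coe_comp, Set.range_comp, hσ, Set.image_singleton]
  let m : pullback (PicF.XTproj f' T') σ ⟶ pullback (PicF.XTproj f T) (σ ≫ g) :=
    pullback.lift (pullback.fst _ σ ≫ h) (pullback.snd _ σ) (by
      rw [Category.assoc, hc, reassoc_of% pullback.condition])
  refine SymPhi99.isAlgEquivZero_pullback Ω (pullback.snd (PicF.XTproj f T) (σ ≫ g)) _ m (pullback.lift_snd _ _ _)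
    ⟨?_⟩ (hz (g t) Ω (σ ≫ g) hr)
  exact (Scheme.Modules.pullbackComp _ _).app L ≪≫ (Scheme.Modules.pullbackCongr (pullback.lift_fst _ _ _)).app L ≪≫
    ((Scheme.Modules.pullbackComp _ _).app L).symm

variable {S : Scheme.{u}} {A At : Over S} [GrpObj A] [IsProper A.hom] [Smooth A.hom] [GeometricallyConnected A.hom]

/-- Rigidified classes on `A ×_S A` that agree on all geometric fibres are equal. -/
theorem eq_of_fibres {n n' : PicF.Cl (A ⊗ A).left} (hn : PicF.IsInvertibleCl n) (hn' : PicF.IsInvertibleCl n')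
    (h1 : PicF.pullCl (lift (1 : A ⟶ A) (𝟙 A)).left n = 1)
    (h1' : PicF.pullCl (lift (1 : A ⟶ A) (𝟙 A)).left n' = 1)
    (h2 : PicF.pullCl (lift (𝟙 A) (1 : A ⟶ A)).left n = 1)
    (h2' : PicF.pullCl (lift (𝟙 A) (1 : A ⟶ A)).left n' = 1)
    (h : ∀ (Ω : Type u) [Field Ω] [IsAlgClosed Ω] (t : Spec (CommRingCat.of Ω) ⟶ S),
      PicF.pullCl (pullback.fst (A ⊗ A).hom t) n = PicF.pullCl (pullback.fst (A ⊗ A).hom t) n') : n = n' := by
  obtain ⟨d, hd, hnd⟩ := AbDual95.exists_inv_cl hn'
  have key : ∀ {W : Scheme.{u}} (g : W ⟶ (A ⊗ A).left), PicF.pullCl g n = PicF.pullCl g n' →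
      PicF.pullCl g (n * d) = 1 := fun g e => by rw [pb_mul, e, pb_inv g hnd]
  obtain ⟨N, hN, hNi⟩ := SymPhi99.isInvertibleCl_mul hn hd
  haveI := AbSch7.geometricallyReduced_of_smooth A.hom
  haveI := Cube7.geometricallyIntegral_of_group A
  let D₀ := Cube73.unitDatum A.hom A.hom η[A].left (Cube7.unit_hom A) η[A].left (Cube7.unit_hom A)
  have k1 : D₀.ix = (lift (1 : A ⟶ A) (𝟙 A)).left := by
    refine pullback.hom_ext ?_ ?_
    · rw [lift_left_fst, Cube7.one_left]
      exact pullback.lift_fst _ _ _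
    · rw [lift_left_snd]
      exact pullback.lift_snd _ _ _
  have k2 : D₀.iy = (lift (𝟙 A) (1 : A ⟶ A)).left := by
    refine pullback.hom_ext ?_ ?_
    · rw [lift_left_fst]
      exact pullback.lift_fst _ _ _
    · rw [lift_left_snd, Cube7.one_left]
      exact pullback.lift_snd _ _ _
  let D : Cube73.Datum S :=
    { D₀ with
      L := N
      hL := hNi
      trivY := nonempty_iso_of_cl (by
        show PicF.pullCl D₀.ix (PicF.cl N) = 1
        rw [hN, k1]
        exact key _ (h1.trans h1'.symm))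
      trivX := nonempty_iso_of_cl (by
        show PicF.pullCl D₀.iy (PicF.cl N) = 1
        rw [hN, k2]
        exact key _ (h2.trans h2'.symm)) }
  have hX : GeometricallyIntegral D.qX := show GeometricallyIntegral A.hom from inferInstance
  have hY : GeometricallyIntegral D.qY := show GeometricallyIntegral A.hom from inferInstance
  have htriv : ∀ s : S, D.TrivAt s := fun s => by
    let Ω := AlgebraicClosure (S.residueField s)
    let t : Spec (CommRingCat.of Ω) ⟶ S :=
      Spec.map (CommRingCat.ofHom (algebraMap (S.residueField s) Ω)) ≫ S.fromSpecResidueField s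
    let z : Spec (CommRingCat.of Ω) := IsLocalRing.closedPoint Ω
    have hz : t z = s := by
      rw [Scheme.Hom.comp_apply]
      exact Scheme.fromSpecResidueField_apply _ _
    rw [← hz]
    obtain ⟨e⟩ : Nonempty ((Scheme.Modules.pullback (pullback.fst D.q t)).obj N ≅ Coh.structureModule _) := by
      refine nonempty_iso_of_cl ?_
      show PicF.pullCl (pullback.fst D.q t) (PicF.cl N) = 1
      rw [hN]
      exact key _ (h Ω t)
    exact (D.bcBC t).trivAt_of z (D.h0At hX hY (t z))
      ⟨(Scheme.Modules.pullback ((D.bc t).q.fiberι z)).mapIso e ≪≫ PicLoc.pullbackStructureIso _⟩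
  obtain ⟨eT⟩ := D.trivial_of_trivAt hX hY htriv
  have hq : n * d = 1 := hN.symm.trans (Quot.sound ⟨eT⟩)
  calc n = n * (n' * d) := by rw [hnd, _root_.mul_one]
    _ = n * d * n' := by ac_rfl
    _ = n' := by rw [hq, _root_.one_mul]

variable [GrpObj At] {φ : ∀ T : Over S, PicF.Cl (PicF.XT A.hom T) → (T ⟶ At)}
  (hφ : AbDual.IsDualAV Scheme.fppfPrecoverage A At φ) {ξ : PicF.Cl (PicF.XT A.hom At)}
  (hξ : AbDual.IsPoincareCl A At φ ξ)

include hξ in
theorem isInvertibleCl_ev {W : Over S} (x : W ⟶ A) (a : W ⟶ At) : PicF.IsInvertibleCl (ev ξ x a) :=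
  isInvertibleCl_pullCl _ (SymPhi99.isInvertibleCl_of_picZero _ hξ.1)

/-- The pair of points of a geometric fibre of `A ×_S A`. -/
abbrev fibW {Ω : Type u} [Field Ω] (t : Spec (CommRingCat.of Ω) ⟶ S) : Over S :=
  Over.mk (pullback.fst (A ⊗ A).hom t ≫ (A ⊗ A).hom)

/-- The first coordinate of a geometric fibre, as a point. -/
abbrev fibPt {Ω : Type u} [Field Ω] (t : Spec (CommRingCat.of Ω) ⟶ S) : fibW (A := A) t ⟶ A ⊗ A :=
  Over.homMk (pullback.fst (A ⊗ A).hom t) rfl

/-- The structure of a geometric fibre over the geometric point. -/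
abbrev fibTo {Ω : Type u} [Field Ω] (t : Spec (CommRingCat.of Ω) ⟶ S) : fibW (A := A) t ⟶ Over.mk t :=
  Over.homMk (pullback.snd (A ⊗ A).hom t) pullback.condition.symm

include hφ hξ in
/-- A homomorphism attached to a module on a geometric fibre pairs symmetrically. -/
theorem ev_symm_of_lambda (f : A ⟶ At) {Ω : Type u} [Field Ω] [IsAlgClosed Ω]
    (t : Spec (CommRingCat.of Ω) ⟶ S) {L₀ : (Red.bc t A).left.Modules} (hL₀ : PicF.IsInvertible L₀)
    (hlam : AgPol.IsLambda (Red.bc t A) (Red.bc t At) (AgPol.bcDual t A At φ) L₀ ((Over.pullback t).map f))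
    {W : Over S} (g : W ⟶ Over.mk t) (x y : W ⟶ A) : ev ξ x (y ≫ f) = ev ξ y (x ≫ f) := by
  obtain ⟨N₀, hN₀, ⟨eN⟩, hN₀f⟩ := hlam
  let A' := Red.bc t A
  haveI : IsProper A'.hom := inferInstanceAs (IsProper (pullback.snd A.hom t))
  haveI : Smooth A'.hom := inferInstanceAs (Smooth (pullback.snd A.hom t))
  haveI : GeometricallyConnected A'.hom := inferInstanceAs (GeometricallyConnected (pullback.snd A.hom t))
  haveI := AbSch7.geometricallyReduced_of_smooth A'.hom
  haveI := Cube7.geometricallyIntegral_of_group A'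
  haveI := AbTI73.comm_A (A := A')
  have hn : (PicF.cl N₀ : PicF.Cl (A' ⊗ A').left) * PicF.pullCl (fst A' A').left (PicF.cl L₀) *
      PicF.pullCl (snd A' A').left (PicF.cl L₀) = PicF.pullCl μ[A'].left (PicF.cl L₀) := Quot.sound ⟨eN⟩
  have hL₀' : PicF.IsInvertibleCl (PicF.cl L₀) := ⟨L₀, rfl, hL₀⟩
  obtain ⟨b, hb, hab⟩ := AbDual95.exists_inv_cl hL₀'
  have hN0 := AbLam7.isPicZeroCl_mumford hN₀ hab hb hn
  let T1 : Over S := Over.mk (A'.hom ≫ t)
  let x1 : T1 ⟶ A := Over.homMk (pullback.fst A.hom t) pullback.condition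
  let i := AgPol.bcXTIso t A A'
  let c : PicF.Cl (PicF.XT A.hom T1) := PicF.pullCl i.inv (PicF.cl N₀)
  have hinv : i.inv ≫ PicF.XTproj A'.hom A' = PicF.XTproj A.hom T1 ≫ 𝟙 _ :=
    (pullbackLeftPullbackSndIso_inv_snd_snd A.hom t A'.hom).trans (Category.comp_id _).symm
  have hc0 : AbDual.IsPicZeroCl A.hom T1 c := isPicZeroCl_square i.inv (𝟙 _) hinv hN0
  have hrig : PicF.pullCl (PicF.secT A.hom η[A].left (Over.w η[A]) T1) c = 1 := by
    have e : (lift (1 : A' ⟶ A') (𝟙 A')).left ≫ i.hom = PicF.secT A.hom η[A].left (Over.w η[A]) T1 := by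
      refine pullback.hom_ext ?_ ?_
      · rw [Category.assoc]
        refine (congrArg ((lift (1 : A' ⟶ A') (𝟙 A')).left ≫ ·)
          (pullbackLeftPullbackSndIso_hom_fst A.hom t A'.hom)).trans ?_
        refine (Category.assoc _ _ _).symm.trans ?_
        refine (congrArg (· ≫ pullback.fst A.hom t) (lift_left_fst (1 : A' ⟶ A') (𝟙 A'))).trans ?_
        rw [Cube7.one_left, Category.assoc]
        refine (congrArg (A'.hom ≫ ·) (?_ : η[A'].left ≫ pullback.fst A.hom t = t ≫ η[A].left)).trans ?_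
        · erw [AbDual95.unit_pullback_left A t]
          exact pullback.lift_fst _ _ _
        · exact ((pullback.lift_fst _ _ _).trans (Category.assoc _ _ _)).symm
      · rw [Category.assoc]
        refine (congrArg ((lift (1 : A' ⟶ A') (𝟙 A')).left ≫ ·)
          (pullbackLeftPullbackSndIso_hom_snd A.hom t A'.hom)).trans ?_
        exact (lift_left_snd (1 : A' ⟶ A') (𝟙 A')).trans (pullback.lift_snd _ _ _).symm
    rw [← e, AbLam7.pullCl_comp', Category.assoc, Iso.hom_inv_id, Category.comp_id,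
      AbLam7.pull_one_snd hab hn, AbDual95.pullCl_eq_one_of_field (isInvertibleCl_pullCl _ hb),
      SymPhi99.pullCl_one]
  have hphi : φ T1 c = x1 ≫ f := by
    refine Over.OverMorphism.ext ?_
    have h2 := congrArg (fun m => m.left ≫ pullback.fst At.hom t) hN₀f
    exact (pullback.lift_fst _ _ _).symm.trans (h2.trans (pullback.lift_fst _ _ _))
  have hcp : c = PicF.pullCl (PicF.XTmap A.hom (x1 ≫ f)) ξ :=
    AbDual95.eq_of_phi_eq_rigid hφ hc0 (isPicZeroCl_point hξ _) hrig (rig_point hξ _)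
      (hphi.trans (phi_point hξ hφ _).symm)
  let W' : Over (Spec (CommRingCat.of Ω)) := Over.mk g.left
  let lft : (W ⟶ A) → (W' ⟶ A') := fun z => Over.homMk
    (pullback.lift z.left g.left ((Over.w z).trans (Over.w g).symm)) (pullback.lift_snd _ _ _)
  have hev : ∀ z w : W ⟶ A,
      ev ξ z (w ≫ f) = PicF.pullCl (lift (lft z) (lft w)).left (PicF.cl N₀) := by
    intro z w
    let w1 : W ⟶ T1 := Over.homMk (lft w).left (by
      show (lft w).left ≫ A'.hom ≫ t = W.hom
      rw [← Category.assoc, Over.w (lft w)]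
      exact Over.w g)
    have hw1 : w1 ≫ x1 = w := Over.OverMorphism.ext (pullback.lift_fst _ _ _)
    have e1 : ev ξ z (w ≫ f) = PicF.pullCl (lift z w1).left c := by
      rw [hcp, ← ev_fst_snd, ev_pull, lift_fst, lift_snd_assoc, ← Category.assoc, hw1]
    rw [e1, AbLam7.pullCl_comp']
    refine SymPhi99.pullCl_congr ?_ _
    rw [Iso.comp_inv_eq]
    refine pullback.hom_ext ?_ ?_
    · rw [lift_left_fst, Category.assoc]
      refine ((congrArg ((lift (lft z) (lft w)).left ≫ ·)
        (pullbackLeftPullbackSndIso_hom_fst A.hom t A'.hom)).trans ?_).symm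
      refine (Category.assoc _ _ _).symm.trans ?_
      exact (congrArg (· ≫ pullback.fst A.hom t) (lift_left_fst (lft z) (lft w))).trans (pullback.lift_fst _ _ _)
    · rw [lift_left_snd, Category.assoc]
      refine ((congrArg ((lift (lft z) (lft w)).left ≫ ·)
        (pullbackLeftPullbackSndIso_hom_snd A.hom t A'.hom)).trans ?_).symm
      exact lift_left_snd (lft z) (lft w)
  rw [hev, hev]
  have h1 := AbLam7.pull_lift hn (lft x) (lft y)
  have h2 := AbLam7.pull_lift hn (lft y) (lft x)
  have hcomm : lft y * lft x = lft x * lft y := by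
    letI := Hom.commMonoid (X := W') (M := A')
    exact _root_.mul_comm _ _
  rw [hcomm, mul_right_comm] at h2
  exact cancel_two (pb_inv _ hab) (pb_inv _ hab) h1 h2

include hφ hξ in
/-- A homomorphism which is a polarisation pairs symmetrically. -/
theorem ev_symm_of_polarization {f : A ⟶ At} (hf : AgPol.IsPolarization A At φ f) :
    ev ξ (fst A A) (snd A A ≫ f) = ev ξ (snd A A) (fst A A ≫ f) := by
  haveI := hf.1
  refine eq_of_fibres (isInvertibleCl_ev hξ _ _) (isInvertibleCl_ev hξ _ _) ?_ ?_ ?_ ?_ fun Ω _ _ t => ?_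
  · rw [ev_pull, lift_fst, ev_one_left hξ]
  · rw [ev_pull, lift_fst_assoc, MonObj.one_comp, ev_one_right hξ hφ]
  · rw [ev_pull, lift_snd_assoc, MonObj.one_comp, ev_one_right hξ hφ]
  · rw [ev_pull, lift_snd, ev_one_left hξ]
  · obtain ⟨L₀, hL₀, hlam⟩ := hf.2 Ω t
    rw [show pullback.fst (A ⊗ A).hom t = (fibPt (A := A) t).left from rfl, ev_pull, ev_pull,
      ← Category.assoc, ← Category.assoc]
    exact ev_symm_of_lambda hφ hξ f t hL₀.1 hlam (fibTo t) _ _

include hφ hξ in
/-- The symmetry passes to powers. -/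
theorem ev_symm_pow {f : A ⟶ At} (h : ev ξ (fst A A) (snd A A ≫ f) = ev ξ (snd A A) (fst A A ≫ f)) :
    ∀ n : ℕ, ev ξ (fst A A) (snd A A ≫ f ^ n) = ev ξ (snd A A) (fst A A ≫ f ^ n)
  | 0 => by simp only [pow_zero, MonObj.comp_one, ev_one_right hξ hφ]
  | n + 1 => by
    rw [pow_succ, MonObj.comp_mul, MonObj.comp_mul, ev_mul_right hξ hφ, ev_mul_right hξ hφ,
      ev_symm_pow h n, h]

theorem isMonHom_mul [IsCommMonObj At] (f g : A ⟶ At) [IsMonHom f] [IsMonHom g] : IsMonHom (f * g) := by
  rw [Hom.mul_def]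
  infer_instance

theorem isMonHom_pow [IsCommMonObj At] (f : A ⟶ At) [IsMonHom f] : ∀ n : ℕ, IsMonHom (f ^ (n + 1))
  | 0 => by rw [zero_add, pow_one]; infer_instance
  | n + 1 => by
    haveI := isMonHom_pow f n
    rw [pow_succ]
    exact isMonHom_mul _ _

include hφ hξ in
/-- The Mumford relation of the pull back of the Poincaré class along a graph. -/
theorem mumford_graph [IsCommMonObj At] {f : A ⟶ At} [IsMonHom f]
    (hsym : ev ξ (fst A A) (snd A A ≫ f) = ev ξ (snd A A) (fst A A ≫ f)) {l : PicF.Cl A.left}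
    (hl : l = PicF.pullCl (pullback.lift (𝟙 A.left) f.left ((Category.id_comp A.hom).trans (Over.w f).symm)) ξ) :
    ev ξ (fst A A) (snd A A ≫ f) * ev ξ (fst A A) (snd A A ≫ f) * PicF.pullCl (fst A A).left l *
      PicF.pullCl (snd A A).left l = PicF.pullCl μ[A].left l := by
  have hγ : l = ev ξ (𝟙 A) f := by
    rw [hl]
    refine SymPhi99.pullCl_congr (pullback.hom_ext ?_ ?_) _
    · rw [lift_left_fst]
      exact pullback.lift_fst _ _ _
    · rw [lift_left_snd]
      exact pullback.lift_snd _ _ _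
  rw [hγ, ev_pull, ev_pull, ev_pull, Category.comp_id, Category.comp_id, Category.comp_id,
    AbDual95.mu_eq_mul, MonObj.mul_comp, ev_mul_left hξ, ev_mul_right hξ hφ, ev_mul_right hξ hφ, ← hsym]
  ac_rfl

include hφ hξ in
/-- The square of a polarisation is attached to the pull back of the Poincaré class along its graph. -/
theorem isLambda_sq [IsCommMonObj At] {f : A ⟶ At} [IsMonHom f]
    (hsym : ev ξ (fst A A) (snd A A ≫ f) = ev ξ (snd A A) (fst A A ≫ f)) {L : A.left.Modules}
    (hL : PicF.cl L = PicF.pullCl (pullback.lift (𝟙 A.left) f.left ((Category.id_comp A.hom).trans (Over.w f).symm)) ξ) :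
    AgPol.IsLambda A At φ L (f * f) := by
  have hp := isPicZeroCl_mul A.hom (isPicZeroCl_point hξ f) (isPicZeroCl_point hξ f)
  obtain ⟨N, hN, hNi, -⟩ := id hp
  refine ⟨N, hNi, nonempty_iso_of_cl ?_, ?_⟩
  · have aux : ∀ M : (A ⊗ A).left.Modules,
        PicF.cl M = ev ξ (fst A A) (snd A A ≫ f) * ev ξ (fst A A) (snd A A ≫ f) →
        PicF.cl M * PicF.pullCl (fst A A).left (PicF.cl L) * PicF.pullCl (snd A A).left (PicF.cl L) =
          PicF.pullCl μ[A].left (PicF.cl L) := fun M hM => by
      rw [hM]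
      exact mumford_graph hφ hξ hsym hL
    refine aux N (hN.trans ?_)
    rw [ev_fst_snd]
  · erw [hN]
    rw [AbDual95.phi_mul hφ (isPicZeroCl_point hξ f) (isPicZeroCl_point hξ f), phi_point hξ hφ]

include hφ hξ in
/-- Homomorphisms with the same pull back of the Poincaré class have the same square. -/
theorem sq_eq_of_graph_eq [IsCommMonObj At] {f g : A ⟶ At} [IsMonHom f] [IsMonHom g]
    (hf : ev ξ (fst A A) (snd A A ≫ f) = ev ξ (snd A A) (fst A A ≫ f))
    (hg : ev ξ (fst A A) (snd A A ≫ g) = ev ξ (snd A A) (fst A A ≫ g))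
    (h : PicF.pullCl (pullback.lift (𝟙 A.left) f.left ((Category.id_comp A.hom).trans (Over.w f).symm)) ξ =
      PicF.pullCl (pullback.lift (𝟙 A.left) g.left ((Category.id_comp A.hom).trans (Over.w g).symm)) ξ) :
    f * f = g * g := by
  have hl : PicF.IsInvertibleCl (PicF.pullCl (pullback.lift (𝟙 A.left) f.left
      ((Category.id_comp A.hom).trans (Over.w f).symm)) ξ) :=
    isInvertibleCl_pullCl _ (SymPhi99.isInvertibleCl_of_picZero _ hξ.1)
  obtain ⟨b, -, hab⟩ := AbDual95.exists_inv_cl hl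
  have key := cancel_two (pb_inv (fst A A).left hab) (pb_inv (snd A A).left hab)
    (mumford_graph hφ hξ hf rfl) (mumford_graph hφ hξ hg h)
  rw [ev_fst_snd, ev_fst_snd] at key
  have := congrArg (φ A) key
  rwa [AbDual95.phi_mul hφ (isPicZeroCl_point hξ f) (isPicZeroCl_point hξ f),
    AbDual95.phi_mul hφ (isPicZeroCl_point hξ g) (isPicZeroCl_point hξ g), phi_point hξ hφ,
    phi_point hξ hφ] at this

include hφ hξ in
/-- Homomorphisms to the dual have no torsion. -/
theorem eq_one_of_pow_eq_one [IsCommMonObj At] {δ : A ⟶ At} [IsMonHom δ] {m : ℕ} (hm : 1 ≤ m)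
    (h : δ ^ m = 1) : δ = 1 := by
  have key : ev ξ (fst A A) (snd A A ≫ δ) = 1 := by
    refine eq_of_fibres (isInvertibleCl_ev hξ _ _) (AbDual95.isInvertibleCl_one _) ?_ (SymPhi99.pullCl_one _) ?_
      (SymPhi99.pullCl_one _) fun Ω _ _ t => ?_
    · rw [ev_pull, lift_fst, ev_one_left hξ]
    · rw [ev_pull, lift_snd_assoc, MonObj.one_comp, ev_one_right hξ hφ]
    let A' := Red.bc t A
    haveI : IsProper A'.hom := inferInstanceAs (IsProper (pullback.snd A.hom t))
    haveI : Smooth A'.hom := inferInstanceAs (Smooth (pullback.snd A.hom t))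
    haveI : GeometricallyConnected A'.hom := inferInstanceAs (GeometricallyConnected (pullback.snd A.hom t))
    haveI := AbSch7.geometricallyReduced_of_smooth A'.hom
    haveI := Cube7.geometricallyIntegral_of_group A'
    haveI := AbDeg57.flat_pow (A := A') m hm
    haveI := AbDeg57.surjective_pow (A := A') m hm
    haveI := Flat.epi_of_flat_of_surjective (𝟙 A' ^ m).left
    let δ' : A' ⟶ Red.bc t At := (Over.pullback t).map δ
    haveI : IsMonHom δ' := inferInstanceAs (IsMonHom ((Over.pullback t).map δ))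
    have hδ : (𝟙 A' ^ m) ≫ δ' = (𝟙 A' ^ m) ≫ 1 := by
      rw [MonObj.comp_one, MonObj.pow_comp, Category.id_comp]
      exact ((map_pow (Functor.homMonoidHom (Over.pullback t) : (A ⟶ At) →* (A' ⟶ Red.bc t At)) δ m).symm.trans
        (congrArg _ h)).trans (map_one _)
    have hδ1 : δ' = 1 := by
      refine Over.OverMorphism.ext ((cancel_epi (𝟙 A' ^ m).left).1 ?_)
      rw [← Over.comp_left, ← Over.comp_left, hδ]
    let T1 : Over S := Over.mk (A'.hom ≫ t)
    let x1 : T1 ⟶ A := Over.homMk (pullback.fst A.hom t) pullback.condition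
    have hx1 : x1 ≫ δ = 1 := by
      rw [← MonObj.comp_one x1]
      refine Over.OverMorphism.ext ?_
      have h1 : δ' = (Over.pullback t).map (1 : A ⟶ At) :=
        hδ1.trans (map_one (Functor.homMonoidHom (Over.pullback t) : (A ⟶ At) →* (A' ⟶ Red.bc t At))).symm
      have h2 := congrArg (fun m => m.left ≫ pullback.fst At.hom t) h1
      exact (pullback.lift_fst _ _ _).symm.trans (h2.trans (pullback.lift_fst _ _ _))
    rw [show pullback.fst (A ⊗ A).hom t = (fibPt (A := A) t).left from rfl, ev_pull, SymPhi99.pullCl_one]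
    let w1 : fibW (A := A) t ⟶ T1 := Over.homMk
      (pullback.lift (fibPt (A := A) t ≫ snd A A).left (fibTo (A := A) t).left
        ((Over.w (fibPt (A := A) t ≫ snd A A)).trans (Over.w (fibTo (A := A) t)).symm)) (by
        show pullback.lift _ _ _ ≫ pullback.snd A.hom t ≫ t = _
        rw [pullback.lift_snd_assoc]
        exact Over.w (fibTo (A := A) t))
    have hw1 : w1 ≫ x1 = fibPt t ≫ snd A A := Over.OverMorphism.ext (pullback.lift_fst _ _ _)
    rw [← Category.assoc, ← hw1, Category.assoc, hx1, MonObj.comp_one, ev_one_right hξ hφ]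
  rw [ev_fst_snd] at key
  have := congrArg (φ A) key
  rwa [phi_point hξ hφ, AbDual95.phi_one hφ] at this

end Groth.Agent.AgPol96
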